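import Groth.Agent.NormEt24.Basic

/-!
# Finite etale covers with connected generic fibre give models over affine opens
-/

set_option autoImplicit false
set_option backward.isDefEq.respectTransparency false
set_option backward.isDefEq.respectTransparency.types false
set_option linter.style.haveILetI false

universe u

open CategoryTheory CategoryTheory.Limits AlgebraicGeometry TopologicalSpace TensorProduct

namespace Groth.Agent.NormEt24

variable {X : Scheme.{u}} [IsIntegral X] (L : Type u) [Field L] [Algebra X.functionField L]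

theorem hasModel_of_isPullback {Y : Scheme.{u}} (q : Y ⟶ X) [IsFinite q] [Etale q]
    (f₁ : Spec (CommRingCat.of L) ⟶ Y)
    (hp : IsPullback f₁ (Spec.map (CommRingCat.ofHom (algebraMap X.functionField L))) q
      (X.fromSpecStalk (genericPoint X)))
    (W : X.Opens) [Nonempty W] (hW : IsAffineOpen W) :
    letI := ((algebraMap X.functionField L).comp (algebraMap Γ(X, W) X.functionField)).toAlgebra
    Abh24.HasModel Γ(X, W) X.functionField L := by
  have hB : IsAffineOpen (q ⁻¹ᵁ W) := hW.preimage q
  let B := Γ(Y, q ⁻¹ᵁ W)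
  letI algB : Algebra Γ(X, W) B := (q.app W).hom.toAlgebra
  haveI : Module.Finite Γ(X, W) B := q.finite_app W hW
  haveI : Algebra.Etale Γ(X, W) B := by
    have := HasRingHomProperty.appLE @Etale q inferInstance ⟨W, hW⟩ ⟨q ⁻¹ᵁ W, hB⟩ le_rfl
    rw [← Scheme.Hom.app_eq_appLE] at this
    exact this
  have hc : IsPullback hB.fromSpec (Spec.map (q.app W)) q hW.fromSpec := by
    refine (IsOpenImmersion.isPullback (Spec.map (q.app W)) hB.fromSpec hW.fromSpec q ?_ ?_).flip
    · rw [Scheme.Hom.app_eq_appLE, IsAffineOpen.SpecMap_appLE_fromSpec q hW hB le_rfl]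
    · rw [hW.opensRange_fromSpec, hB.opensRange_fromSpec]
  let γ : Spec X.functionField ⟶ Spec Γ(X, W) := Spec.map (X.germToFunctionField W)
  have e : X.fromSpecStalk (genericPoint X) = γ ≫ hW.fromSpec := by
    rw [← hW.fromSpecStalk_eq_fromSpecStalk (genericPoint_mem W), IsAffineOpen.fromSpecStalk]
  rw [e] at hp
  let μ := hc.lift f₁ (Spec.map (CommRingCat.ofHom (algebraMap X.functionField L)) ≫ γ)
    (by rw [Category.assoc]; exact hp.w)
  have hμ : IsPullback μ (Spec.map (CommRingCat.ofHom (algebraMap X.functionField L)))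
      (Spec.map (q.app W)) γ := by
    refine IsPullback.of_right ?_ (hc.lift_snd _ _ _) hc
    rw [hc.lift_fst]
    exact hp
  have ht := isPullback_SpecMap_of_isPushout _ _ _ _
    (CommRingCat.isPushout_tensorProduct Γ(X, W) X.functionField B)
  let θ := hμ.isoIsPullback _ _ ht.flip
  have hθ : θ.hom ≫ Spec.map (CommRingCat.ofHom Algebra.TensorProduct.includeLeftRingHom) =
      Spec.map (CommRingCat.ofHom (algebraMap X.functionField L)) := hμ.isoIsPullback_hom_snd _ _ ht.flip
  haveI : IsIso (Spec.preimage θ.hom) := by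
    haveI : IsIso (Scheme.Spec.map (Spec.preimage θ.hom).op) := by
      change IsIso (Spec.map (Spec.preimage θ.hom))
      rw [Spec.map_preimage]
      infer_instance
    haveI : IsIso (Spec.preimage θ.hom).op := isIso_of_fully_faithful Scheme.Spec _
    exact isIso_of_op _
  let ρ := (asIso (Spec.preimage θ.hom)).commRingCatIsoToRingEquiv
  have hρ : ∀ k : X.functionField, ρ (k ⊗ₜ[Γ(X, W)] (1 : B)) = algebraMap X.functionField L k := by
    intro k
    have h : CommRingCat.ofHom Algebra.TensorProduct.includeLeftRingHom ≫ Spec.preimage θ.hom =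
        CommRingCat.ofHom (algebraMap X.functionField L) := by
      apply Spec.map_injective
      rw [Spec.map_comp, Spec.map_preimage, hθ]
    exact congrArg (fun φ => φ k) h
  letI algL : Algebra Γ(X, W) L :=
    ((algebraMap X.functionField L).comp (algebraMap Γ(X, W) X.functionField)).toAlgebra
  exact ⟨B, inferInstance, algB, inferInstance, inferInstance, ⟨AlgEquiv.ofRingEquiv (f := ρ) hρ⟩⟩

theorem essImage_iff (hX : Pi1.IsNormalScheme X) [FiniteDimensional X.functionField L]
    [QuasiCompact (gL (X := X) L)] [QuasiSeparated (gL (X := X) L)]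
    (Y₀ : FEt.Cat (Spec X.functionField)) (e : Y₀.left ≅ Spec (CommRingCat.of L))
    (he : e.hom ≫ Spec.map (CommRingCat.ofHom (algebraMap X.functionField L)) = Y₀.hom) :
    (FEt.restrict (X.fromSpecStalk (genericPoint X))).essImage Y₀ ↔
      (Etale (gL (X := X) L).fromNormalization ∧ IsFinite (gL (X := X) L).fromNormalization) := by
  constructor
  · rintro ⟨Y, ⟨i⟩⟩
    haveI : IsFinite Y.hom := Y.prop.1
    haveI : Etale Y.hom := Y.prop.2
    let j : pullback Y.hom (X.fromSpecStalk (genericPoint X)) ≅ Spec (CommRingCat.of L) :=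
      (MorphismProperty.Over.forget _ _ _ ⋙ Over.forget _).mapIso i ≪≫ e
    have hj : j.hom ≫ Spec.map (CommRingCat.ofHom (algebraMap X.functionField L)) =
        pullback.snd Y.hom (X.fromSpecStalk (genericPoint X)) := by
      simp only [j, Iso.trans_hom, Category.assoc, he]
      exact Over.w i.hom.hom
    have hp : IsPullback (j.inv ≫ pullback.fst _ _)
        (Spec.map (CommRingCat.ofHom (algebraMap X.functionField L))) Y.hom
        (X.fromSpecStalk (genericPoint X)) :=
      (IsPullback.of_hasPullback Y.hom (X.fromSpecStalk (genericPoint X))).of_iso j (Iso.refl _)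
        (Iso.refl _) (Iso.refl _) (by simp) (by simp [hj]) (by simp) (by simp)
    have h := finite_etale_of_hasModel L hX fun W _ hW => hasModel_of_isPullback (X := X) L Y.hom _ hp W hW
    exact ⟨h.2, h.1⟩
  · rintro ⟨h1, h2⟩
    let Y : FEt.Cat X := MorphismProperty.Over.mk ⊤ (gL (X := X) L).fromNormalization ⟨h2, h1⟩
    let j := (isPullback_generic (X := X) L).isoPullback.symm ≪≫ e.symm
    refine ⟨Y, ⟨MorphismProperty.Over.isoMk j ?_⟩⟩
    simp only [j, Iso.trans_hom, Iso.symm_hom, Category.assoc]
    rw [← he, Iso.inv_hom_id_assoc]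
    exact (isPullback_generic (X := X) L).isoPullback_inv_snd

end Groth.Agent.NormEt24
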