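import Groth.Agent.NormEt24.Basic
import Groth.Agent.NormEt24.Degree

/-!
# Normalization is finite etale near a point with maximal geometric fibre
-/

set_option autoImplicit false
set_option backward.isDefEq.respectTransparency false
set_option backward.isDefEq.respectTransparency.types false
set_option linter.style.haveILetI false

universe u

open CategoryTheory CategoryTheory.Limits AlgebraicGeometry TopologicalSpace

namespace Groth.Agent.NormEt24

variable {X : Scheme.{u}} [IsIntegral X] (L : Type u) [Field L] [Algebra X.functionField L]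
  [FiniteDimensional X.functionField L] [QuasiCompact (gL (X := X) L)] [QuasiSeparated (gL (X := X) L)]

theorem exists_open_finite_etale (hX : Pi1.IsNormalScheme X) (Ω : Type u) [Field Ω]
    (ξ : Spec (CommRingCat.of Ω) ⟶ X)
    (pts : Fin (Module.finrank X.functionField L) ↪
      {η : Spec (CommRingCat.of Ω) ⟶ (gL (X := X) L).normalization //
        η ≫ (gL (X := X) L).fromNormalization = ξ}) :
    ∃ U : X.Opens, Set.range ξ.base ⊆ (U : Set X) ∧
      Etale (pullback.snd (gL (X := X) L).fromNormalization U.ι) ∧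
      IsFinite (pullback.snd (gL (X := X) L).fromNormalization U.ι) := by
  obtain ⟨W, hW, hx, -⟩ := exists_isAffineOpen_mem_and_subset
    (Opens.mem_top (ξ.base (IsLocalRing.closedPoint Ω)))
  haveI : Nonempty W := ⟨⟨_, hx⟩⟩
  obtain ⟨C, _, _, ψ, c, h1, h2, h3, -⟩ := exists_chart L hW
  letI := ψ.toAlgebra
  letI algL : Algebra Γ(X, W) L :=
    ((algebraMap X.functionField L).comp (algebraMap Γ(X, W) X.functionField)).toAlgebra
  haveI := h2
  haveI : IsScalarTower Γ(X, W) X.functionField L := IsScalarTower.of_algebraMap_eq' rfl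
  haveI : IsScalarTower Γ(X, W) C L := IsScalarTower.of_algebraMap_eq' h1.symm
  haveI : IsFractionRing Γ(X, W) X.functionField := functionField_isFractionRing_of_isAffineOpen X W hW
  haveI : IsIntegrallyClosed Γ(X, W) := (S9821.result X).mp hX W hW
  -- the geometric points in the chart
  have hrange : Set.range ξ.base ⊆ (W : Set X) := by
    rintro _ ⟨z, rfl⟩
    rw [Subsingleton.elim z (IsLocalRing.closedPoint Ω)]
    exact hx
  let ξW : Spec (CommRingCat.of Ω) ⟶ Spec Γ(X, W) :=
    IsOpenImmersion.lift hW.fromSpec ξ (by rw [hW.range_fromSpec]; exact hrange)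
  let φ := Spec.preimage ξW
  have hξ : Spec.map φ ≫ hW.fromSpec = ξ := by
    rw [Spec.map_preimage]; exact IsOpenImmersion.lift_fac _ _ _
  let P := fun i => h3.lift (pts i).1 (Spec.map φ) (by rw [(pts i).2, hξ])
  let η : Fin (Module.finrank X.functionField L) → (C →+* Ω) := fun i => (Spec.preimage (P i)).hom
  have hη : ∀ i, (η i).comp (algebraMap Γ(X, W) C) = φ.hom := by
    intro i
    have h : CommRingCat.ofHom (algebraMap Γ(X, W) C) ≫ Spec.preimage (P i) = φ := by
      apply Spec.map_injective
      rw [Spec.map_comp, Spec.map_preimage]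
      exact h3.lift_snd _ _ _
    exact congrArg CommRingCat.Hom.hom h
  have hinj : Function.Injective η := by
    intro i j hij
    apply pts.injective
    apply Subtype.ext
    have h : P i = P j := by
      rw [← Spec.map_preimage (P i), ← Spec.map_preimage (P j),
        show Spec.preimage (P i) = Spec.preimage (P j) from CommRingCat.hom_ext hij]
    rw [← h3.lift_fst (pts i).1 (Spec.map φ) (by rw [(pts i).2, hξ]),
      ← h3.lift_fst (pts j).1 (Spec.map φ) (by rw [(pts j).2, hξ])]
    exact congrArg (· ≫ c) h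
  obtain ⟨d, hd, hloc⟩ := exists_finite_etale_away (A := Γ(X, W)) (K := X.functionField) (L := L)
    (C := C) φ.hom η hη hinj rfl
  -- the open
  let U := X.basicOpen d
  have hU : IsAffineOpen U := hW.basicOpen d
  refine ⟨U, ?_, ?_⟩
  · rintro _ ⟨z, rfl⟩
    rw [← hξ, Scheme.Hom.comp_base, TopCat.comp_app]
    change Spec.map φ z ∈ hW.fromSpec ⁻¹ᵁ U
    rw [hW.fromSpec_preimage_basicOpen]
    intro hmem
    apply hd
    have hz : z.asIdeal = ⊥ := (Ideal.eq_bot_or_top z.asIdeal).resolve_right z.isPrime.ne_top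
    have h4 : φ.hom d ∈ z.asIdeal := hmem
    rw [hz] at h4
    exact h4
  letI aR : Algebra Γ(X, W) Γ(X, U) := (X.presheaf.map (homOfLE (X.basicOpen_le d)).op).hom.toAlgebra
  haveI : IsLocalization.Away d Γ(X, U) := hW.isLocalization_basicOpen d
  let Cd := Localization.Away (algebraMap Γ(X, W) C d)
  let r : Γ(X, U) →+* Cd := IsLocalization.Away.lift d
    (g := (algebraMap C Cd).comp (algebraMap Γ(X, W) C))
    (IsLocalization.Away.algebraMap_isUnit (algebraMap Γ(X, W) C d))
  have hr : r.comp (algebraMap Γ(X, W) Γ(X, U)) = (algebraMap C Cd).comp (algebraMap Γ(X, W) C) :=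
    IsLocalization.Away.lift_comp d _
  letI : Algebra Γ(X, U) Cd := r.toAlgebra
  haveI : IsScalarTower Γ(X, W) Γ(X, U) Cd := IsScalarTower.of_algebraMap_eq fun a => by
    rw [IsScalarTower.algebraMap_apply Γ(X, W) C Cd]
    exact (congrArg (fun g => g a) hr).symm
  obtain ⟨hf, he⟩ := hloc Γ(X, U) Cd
  haveI : IsLocalization ((Submonoid.powers d).map (algebraMap Γ(X, W) C)) Cd := by
    rw [Submonoid.map_powers]; infer_instance
  have hp := isPullback_SpecMap_of_isPushout _ _ _ _
    (CommRingCat.isPushout_of_isLocalization (Rₘ := Γ(X, U)) (Sₘ := Cd)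
      (algebraMap Γ(X, W) C) (algebraMap Γ(X, U) Cd) hr (Submonoid.powers d))
  have h := hp.paste_horiz h3
  rw [show Spec.map (CommRingCat.ofHom (algebraMap Γ(X, W) Γ(X, U))) ≫ hW.fromSpec = hU.fromSpec from
    hW.map_fromSpec hU (homOfLE (X.basicOpen_le d)).op] at h
  have hiso := morphismRestrictIsoOfIsPullback (gL (X := X) L).fromNormalization hU h
  have hiso' : Arrow.mk (pullback.snd (gL (X := X) L).fromNormalization U.ι) ≅
      Arrow.mk ((gL (X := X) L).fromNormalization ∣_ U) :=
    Arrow.isoMk (pullbackRestrictIsoRestrict (gL (X := X) L).fromNormalization U) (Iso.refl _)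
      (by simp [morphismRestrict])
  have hs1 : IsFinite (Spec.map (CommRingCat.ofHom (algebraMap Γ(X, U) Cd))) :=
    (IsFinite.SpecMap_iff _).mpr (by rw [CommRingCat.hom_ofHom, RingHom.finite_algebraMap]; exact hf)
  have hs2 : Etale (Spec.map (CommRingCat.ofHom (algebraMap Γ(X, U) Cd))) :=
    (HasRingHomProperty.Spec_iff (P := @Etale)).mpr
      (by rw [CommRingCat.hom_ofHom, RingHom.etale_algebraMap]; exact he)
  exact ⟨(MorphismProperty.arrow_mk_iso_iff @Etale (hiso' ≪≫ hiso)).mpr hs2,
    (MorphismProperty.arrow_mk_iso_iff @IsFinite (hiso' ≪≫ hiso)).mpr hs1⟩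

end Groth.Agent.NormEt24
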